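import Mathlib

set_option autoImplicit false
open AlgebraicGeometry
universe u

namespace Groth.Agent.Helper19.LG

open AlgebraicGeometry in
theorem spec_crit' {A : Type u} [CommRing A] (U : (Spec (CommRingCat.of A)).Opens)
    (hU : IsCompact (U : Set ↥(Spec (CommRingCat.of A)))) :
    ∃ t : Finset A, ∀ (S : Type u) [CommRing S] (ψ : A →+* S) (q : PrimeSpectrum S),
      (Spec.map (CommRingCat.ofHom ψ)).base q ∈ (U : Set ↥(Spec (CommRingCat.of A))) ↔
        ∃ f ∈ t, ψ f ∉ q.asIdeal := by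
  classical
  set Us : Set (PrimeSpectrum A) := (U : Set ↥(Spec (CommRingCat.of A))) with hUs
  have hopen : IsOpen Us := U.2
  have hcomp : IsCompact Us := hU
  obtain ⟨t, ht⟩ := PrimeSpectrum.isCompact_isOpen_iff.mp ⟨hcomp, hopen⟩
  refine ⟨t, ?_⟩
  intro S _ ψ q
  constructor
  · intro h1
    have h1' : (Spec.map (CommRingCat.ofHom ψ)).base q ∈ Us := h1
    have h2 : PrimeSpectrum.comap ψ q ∈ (PrimeSpectrum.zeroLocus (t : Set A))ᶜ := by
      rw [ht]; exact h1'
    rw [Set.mem_compl_iff, PrimeSpectrum.mem_zeroLocus, Set.not_subset] at h2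
    obtain ⟨f, hft, hfq⟩ := h2
    exact ⟨f, hft, hfq⟩
  · rintro ⟨f, hft, hfq⟩
    have h2 : PrimeSpectrum.comap ψ q ∈ (PrimeSpectrum.zeroLocus (t : Set A))ᶜ := by
      rw [Set.mem_compl_iff, PrimeSpectrum.mem_zeroLocus, Set.not_subset]
      exact ⟨f, hft, hfq⟩
    rw [ht] at h2
    exact h2

end Groth.Agent.Helper19.LG
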